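import Mathlib

/-!
# Involutions in a unipotent group of type `G₂` in characteristic two (abstract form)

Six root maps `B, A, C, D, E, Z : F → Γ` (for the roots `b, a, a+b, 2a+b, 3a+b, 3a+2b`) satisfying
the Chevalley commutator relations of type `G₂` reduced modulo two.  We compute the product law on
normal forms and show that every involution in normal form is conjugate to `Z 1` or to `D 1`
(using Weyl elements and torus elements given abstractly).
-/

set_option autoImplicit false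

namespace Cfsg.Agent.Helper4.G2Inv

/-- root maps with the relations of the positive unipotent subgroup of `G₂` in characteristic 2 -/
structure Rel (F Γ : Type*) [Field F] [Group Γ] where
  B : F → Γ
  A : F → Γ
  C : F → Γ
  D : F → Γ
  E : F → Γ
  Z : F → Γ
  addB : ∀ s t, B (s + t) = B s * B t
  addA : ∀ s t, A (s + t) = A s * A t
  addC : ∀ s t, C (s + t) = C s * C t
  addD : ∀ s t, D (s + t) = D s * D t
  addE : ∀ s t, E (s + t) = E s * E t
  addZ : ∀ s t, Z (s + t) = Z s * Z t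
  rAB : ∀ t u, A u * B t = B t * A u * C (t * u) * D (t * u ^ 2) * E (t * u ^ 3)
  rCA : ∀ t u, C u * A t = A t * C u * E (t ^ 2 * u) * Z (t * u ^ 2)
  rDA : ∀ t u, D u * A t = A t * D u * E (t * u)
  rDC : ∀ t u, D u * C t = C t * D u * Z (t * u)
  rEB : ∀ t u, E u * B t = B t * E u * Z (t * u)
  cAE : ∀ t u, E u * A t = A t * E u
  cAZ : ∀ t u, Z u * A t = A t * Z u
  cBC : ∀ t u, C u * B t = B t * C u
  cBD : ∀ t u, D u * B t = B t * D u
  cBZ : ∀ t u, Z u * B t = B t * Z u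
  cCE : ∀ t u, E u * C t = C t * E u
  cCZ : ∀ t u, Z u * C t = C t * Z u
  cDE : ∀ t u, E u * D t = D t * E u
  cDZ : ∀ t u, Z u * D t = D t * Z u
  cEZ : ∀ t u, Z u * E t = E t * Z u

variable {F Γ : Type*} [Field F] [Group Γ] (R : Rel F Γ)

namespace Rel

/-- the normal form -/
def nf (b a c d e z : F) : Γ := R.B b * (R.A a * (R.C c * (R.D d * (R.E e * R.Z z))))

theorem B0 : R.B 0 = 1 := by
  have := R.addB 0 0
  rw [add_zero] at this
  exact (mul_eq_left.mp this.symm)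
theorem A0 : R.A 0 = 1 := by
  have := R.addA 0 0
  rw [add_zero] at this
  exact (mul_eq_left.mp this.symm)
theorem C0 : R.C 0 = 1 := by
  have := R.addC 0 0
  rw [add_zero] at this
  exact (mul_eq_left.mp this.symm)
theorem D0 : R.D 0 = 1 := by
  have := R.addD 0 0
  rw [add_zero] at this
  exact (mul_eq_left.mp this.symm)
theorem E0 : R.E 0 = 1 := by
  have := R.addE 0 0
  rw [add_zero] at this
  exact (mul_eq_left.mp this.symm)
theorem Z0 : R.Z 0 = 1 := by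
  have := R.addZ 0 0
  rw [add_zero] at this
  exact (mul_eq_left.mp this.symm)

/-! ### sorting rules with a tail -/

theorem tAB (t u : F) (w : Γ) :
    R.A u * (R.B t * w) = R.B t * (R.A u * (R.C (t * u) * (R.D (t * u ^ 2) * (R.E (t * u ^ 3) * w)))) := by
  rw [← mul_assoc, R.rAB]; simp only [mul_assoc]
theorem tCA (t u : F) (w : Γ) :
    R.C u * (R.A t * w) = R.A t * (R.C u * (R.E (t ^ 2 * u) * (R.Z (t * u ^ 2) * w))) := by
  rw [← mul_assoc, R.rCA]; simp only [mul_assoc]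
theorem tDA (t u : F) (w : Γ) : R.D u * (R.A t * w) = R.A t * (R.D u * (R.E (t * u) * w)) := by
  rw [← mul_assoc, R.rDA]; simp only [mul_assoc]
theorem tDC (t u : F) (w : Γ) : R.D u * (R.C t * w) = R.C t * (R.D u * (R.Z (t * u) * w)) := by
  rw [← mul_assoc, R.rDC]; simp only [mul_assoc]
theorem tEB (t u : F) (w : Γ) : R.E u * (R.B t * w) = R.B t * (R.E u * (R.Z (t * u) * w)) := by
  rw [← mul_assoc, R.rEB]; simp only [mul_assoc]
theorem tAE (t u : F) (w : Γ) : R.E u * (R.A t * w) = R.A t * (R.E u * w) := by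
  rw [← mul_assoc, R.cAE]; simp only [mul_assoc]
theorem tAZ (t u : F) (w : Γ) : R.Z u * (R.A t * w) = R.A t * (R.Z u * w) := by
  rw [← mul_assoc, R.cAZ]; simp only [mul_assoc]
theorem tBC (t u : F) (w : Γ) : R.C u * (R.B t * w) = R.B t * (R.C u * w) := by
  rw [← mul_assoc, R.cBC]; simp only [mul_assoc]
theorem tBD (t u : F) (w : Γ) : R.D u * (R.B t * w) = R.B t * (R.D u * w) := by
  rw [← mul_assoc, R.cBD]; simp only [mul_assoc]
theorem tBZ (t u : F) (w : Γ) : R.Z u * (R.B t * w) = R.B t * (R.Z u * w) := by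
  rw [← mul_assoc, R.cBZ]; simp only [mul_assoc]
theorem tCE (t u : F) (w : Γ) : R.E u * (R.C t * w) = R.C t * (R.E u * w) := by
  rw [← mul_assoc, R.cCE]; simp only [mul_assoc]
theorem tCZ (t u : F) (w : Γ) : R.Z u * (R.C t * w) = R.C t * (R.Z u * w) := by
  rw [← mul_assoc, R.cCZ]; simp only [mul_assoc]
theorem tDE (t u : F) (w : Γ) : R.E u * (R.D t * w) = R.D t * (R.E u * w) := by
  rw [← mul_assoc, R.cDE]; simp only [mul_assoc]
theorem tDZ (t u : F) (w : Γ) : R.Z u * (R.D t * w) = R.D t * (R.Z u * w) := by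
  rw [← mul_assoc, R.cDZ]; simp only [mul_assoc]
theorem tEZ (t u : F) (w : Γ) : R.Z u * (R.E t * w) = R.E t * (R.Z u * w) := by
  rw [← mul_assoc, R.cEZ]; simp only [mul_assoc]

theorem mB (s t : F) (w : Γ) : R.B s * (R.B t * w) = R.B (s + t) * w := by rw [R.addB, mul_assoc]
theorem mA (s t : F) (w : Γ) : R.A s * (R.A t * w) = R.A (s + t) * w := by rw [R.addA, mul_assoc]
theorem mC (s t : F) (w : Γ) : R.C s * (R.C t * w) = R.C (s + t) * w := by rw [R.addC, mul_assoc]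
theorem mD (s t : F) (w : Γ) : R.D s * (R.D t * w) = R.D (s + t) * w := by rw [R.addD, mul_assoc]
theorem mE (s t : F) (w : Γ) : R.E s * (R.E t * w) = R.E (s + t) * w := by rw [R.addE, mul_assoc]
theorem mZ (s t : F) (w : Γ) : R.Z s * (R.Z t * w) = R.Z (s + t) * w := by rw [R.addZ, mul_assoc]


section char2

variable [CharP F 2]

theorem two0 : (2 : F) = 0 := CharTwo.two_eq_zero

theorem invB (w : F) : (R.B w)⁻¹ = R.B w := by
  rw [inv_eq_iff_mul_eq_one, ← R.addB, CharTwo.add_self_eq_zero, R.B0]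
theorem invA (w : F) : (R.A w)⁻¹ = R.A w := by
  rw [inv_eq_iff_mul_eq_one, ← R.addA, CharTwo.add_self_eq_zero, R.A0]
theorem invC (w : F) : (R.C w)⁻¹ = R.C w := by
  rw [inv_eq_iff_mul_eq_one, ← R.addC, CharTwo.add_self_eq_zero, R.C0]
theorem invD (w : F) : (R.D w)⁻¹ = R.D w := by
  rw [inv_eq_iff_mul_eq_one, ← R.addD, CharTwo.add_self_eq_zero, R.D0]
theorem invE (w : F) : (R.E w)⁻¹ = R.E w := by
  rw [inv_eq_iff_mul_eq_one, ← R.addE, CharTwo.add_self_eq_zero, R.E0]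

/-- the square of a normal form -/
theorem sq_nf (b a c d e z : F) :
    R.nf b a c d e z * R.nf b a c d e z =
      R.nf 0 0 (a * b) (a ^ 2 * b) (a ^ 3 * b + a ^ 2 * c + a * d)
        (a ^ 3 * b ^ 2 + a * c ^ 2 + c * d + b * e) := by
  have h2 : (2 : F) = 0 := two0
  unfold nf
  simp only [mul_assoc, R.cBZ, R.tEB, R.tBD, R.tBC, R.tAB, R.mB, R.tCE, R.tCZ, R.tDC, R.tDE, R.tDZ,
    R.tEZ, R.mC, R.mD, R.mE, R.mZ, R.cEZ, R.cDZ, R.cCZ, R.tCA, R.tDA, R.tAE, R.tAZ, R.tBZ, R.mA,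
    R.cAE, R.cAZ, R.cBC, R.cBD, R.cCE, R.cDE, R.rAB, R.rCA, R.rDA, R.rDC, R.rEB,
    ← R.addZ, ← R.addE, ← R.addD, ← R.addC, ← R.addA, ← R.addB]
  change R.nf _ _ _ _ _ _ = R.nf _ _ _ _ _ _
  congr 1
  · linear_combination b * h2
  · linear_combination a * h2
  · linear_combination c * h2
  · linear_combination d * h2
  · linear_combination (a ^ 3 * b + e) * h2
  · linear_combination (c * b * a ^ 2 + z) * h2

theorem cjB (b a c d e z w : F) :
    R.B w * R.nf b a c d e z * (R.B w)⁻¹ =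
      R.nf b a (c + w * a) (d + w * a ^ 2) (e + w * a ^ 3) (z + w * e + c * w * a ^ 2) := by
  have h2 : (2 : F) = 0 := two0
  rw [invB]
  unfold nf
  simp only [mul_assoc, R.cBZ, R.tEB, R.tBD, R.tBC, R.tAB, R.mB, R.tCE, R.tCZ, R.tDC, R.tDE, R.tDZ,
    R.tEZ, R.mC, R.mD, R.mE, R.mZ, R.cEZ, R.cDZ, R.cCZ, R.tCA, R.tDA, R.tAE, R.tAZ, R.tBZ, R.mA,
    R.cAE, R.cAZ, R.cBC, R.cBD, R.cCE, R.cDE, R.rAB, R.rCA, R.rDA, R.rDC, R.rEB,
    ← R.addZ, ← R.addE, ← R.addD, ← R.addC, ← R.addA, ← R.addB]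
  change R.nf _ _ _ _ _ _ = R.nf _ _ _ _ _ _
  congr 1
  · linear_combination w * h2
  · ring
  · ring
  · ring
  · ring

theorem cjA (b a c d e z w : F) :
    R.A w * R.nf b a c d e z * (R.A w)⁻¹ =
      R.nf b a (c + b * w) (d + b * w ^ 2)
        (e + b * w ^ 3 + w ^ 2 * c + w * d + a ^ 2 * b * w + a * b * w ^ 2)
        (z + w * c ^ 2 + b ^ 2 * w ^ 3 + a * b ^ 2 * w ^ 2 + c * b * w ^ 2) := by
  have h2 : (2 : F) = 0 := two0
  rw [invA]
  unfold nf
  simp only [mul_assoc, R.cBZ, R.tEB, R.tBD, R.tBC, R.tAB, R.mB, R.tCE, R.tCZ, R.tDC, R.tDE, R.tDZ,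
    R.tEZ, R.mC, R.mD, R.mE, R.mZ, R.cEZ, R.cDZ, R.cCZ, R.tCA, R.tDA, R.tAE, R.tAZ, R.tBZ, R.mA,
    R.cAE, R.cAZ, R.cBC, R.cBD, R.cCE, R.cDE, R.rAB, R.rCA, R.rDA, R.rDC, R.rEB,
    ← R.addZ, ← R.addE, ← R.addD, ← R.addC, ← R.addA, ← R.addB]
  change R.nf _ _ _ _ _ _ = R.nf _ _ _ _ _ _
  congr 1
  · linear_combination w * h2
  · ring
  · ring
  · linear_combination (b * w ^ 3) * h2
  · linear_combination (w ^ 2 * b * c) * h2

theorem cjC (b a c d e z w : F) :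
    R.C w * R.nf b a c d e z * (R.C w)⁻¹ =
      R.nf b a c d (e + a ^ 2 * w) (z + w * d + a * w ^ 2) := by
  have h2 : (2 : F) = 0 := two0
  rw [invC]
  unfold nf
  simp only [mul_assoc, R.cBZ, R.tEB, R.tBD, R.tBC, R.tAB, R.mB, R.tCE, R.tCZ, R.tDC, R.tDE, R.tDZ,
    R.tEZ, R.mC, R.mD, R.mE, R.mZ, R.cEZ, R.cDZ, R.cCZ, R.tCA, R.tDA, R.tAE, R.tAZ, R.tBZ, R.mA,
    R.cAE, R.cAZ, R.cBC, R.cBD, R.cCE, R.cDE, R.rAB, R.rCA, R.rDA, R.rDC, R.rEB,
    ← R.addZ, ← R.addE, ← R.addD, ← R.addC, ← R.addA, ← R.addB]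
  change R.nf _ _ _ _ _ _ = R.nf _ _ _ _ _ _
  congr 1
  · linear_combination w * h2
  · ring
  · ring

theorem cjD (b a c d e z w : F) :
    R.D w * R.nf b a c d e z * (R.D w)⁻¹ = R.nf b a c d (e + a * w) (z + c * w) := by
  have h2 : (2 : F) = 0 := two0
  rw [invD]
  unfold nf
  simp only [mul_assoc, R.cBZ, R.tEB, R.tBD, R.tBC, R.tAB, R.mB, R.tCE, R.tCZ, R.tDC, R.tDE, R.tDZ,
    R.tEZ, R.mC, R.mD, R.mE, R.mZ, R.cEZ, R.cDZ, R.cCZ, R.tCA, R.tDA, R.tAE, R.tAZ, R.tBZ, R.mA,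
    R.cAE, R.cAZ, R.cBC, R.cBD, R.cCE, R.cDE, R.rAB, R.rCA, R.rDA, R.rDC, R.rEB,
    ← R.addZ, ← R.addE, ← R.addD, ← R.addC, ← R.addA, ← R.addB]
  change R.nf _ _ _ _ _ _ = R.nf _ _ _ _ _ _
  congr 1
  · linear_combination w * h2
  · ring
  · ring

theorem cjE (b a c d e z w : F) :
    R.E w * R.nf b a c d e z * (R.E w)⁻¹ = R.nf b a c d e (z + b * w) := by
  have h2 : (2 : F) = 0 := two0
  rw [invE]
  unfold nf
  simp only [mul_assoc, R.cBZ, R.tEB, R.tBD, R.tBC, R.tAB, R.mB, R.tCE, R.tCZ, R.tDC, R.tDE, R.tDZ,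
    R.tEZ, R.mC, R.mD, R.mE, R.mZ, R.cEZ, R.cDZ, R.cCZ, R.tCA, R.tDA, R.tAE, R.tAZ, R.tBZ, R.mA,
    R.cAE, R.cAZ, R.cBC, R.cBD, R.cCE, R.cDE, R.rAB, R.rCA, R.rDA, R.rDC, R.rEB,
    ← R.addZ, ← R.addE, ← R.addD, ← R.addC, ← R.addA, ← R.addB]
  change R.nf _ _ _ _ _ _ = R.nf _ _ _ _ _ _
  congr 1
  · linear_combination w * h2
  · ring

/-- the hypotheses on Weyl and torus elements, and the uniqueness of normal forms -/
structure Aux (R : Rel F Γ) : Prop where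
  sq : ∀ c : F, ∃ s : F, s ^ 2 = c
  inj : ∀ b a c d e z : F, R.nf b a c d e z = 1 →
    b = 0 ∧ a = 0 ∧ c = 0 ∧ d = 0 ∧ e = 0 ∧ z = 0
  naB : ∃ n : Γ, (∀ t, n * R.B t * n⁻¹ = R.E t) ∧ (∀ t, n * R.C t * n⁻¹ = R.D t) ∧
    (∀ t, n * R.D t * n⁻¹ = R.C t) ∧ (∀ t, n * R.Z t * n⁻¹ = R.Z t)
  nbA : ∃ n : Γ, (∀ t, n * R.A t * n⁻¹ = R.C t) ∧ (∀ t, n * R.E t * n⁻¹ = R.Z t)
  hZ : ∀ c : F, c ≠ 0 → ∃ h : Γ, ∀ t, h * R.Z t * h⁻¹ = R.Z (c * t)
  hD : ∀ c : F, c ≠ 0 → ∃ h : Γ, ∀ t, h * R.D t * h⁻¹ = R.D (c * t)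

variable {R}

theorem nf_Z (z : F) : R.nf 0 0 0 0 0 z = R.Z z := by
  unfold nf; rw [R.B0, R.A0, R.C0, R.D0, R.E0]; simp
theorem nf_E (e : F) : R.nf 0 0 0 0 e 0 = R.E e := by
  unfold nf; rw [R.B0, R.A0, R.C0, R.D0, R.Z0]; simp
theorem nf_D (d : F) : R.nf 0 0 0 d 0 0 = R.D d := by
  unfold nf; rw [R.B0, R.A0, R.C0, R.E0, R.Z0]; simp
theorem nf_C (c : F) : R.nf 0 0 c 0 0 0 = R.C c := by
  unfold nf; rw [R.B0, R.A0, R.D0, R.E0, R.Z0]; simp
theorem nf_A (a : F) : R.nf 0 a 0 0 0 0 = R.A a := by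
  unfold nf; rw [R.B0, R.C0, R.D0, R.E0, R.Z0]; simp
theorem nf_B (b : F) : R.nf b 0 0 0 0 0 = R.B b := by
  unfold nf; rw [R.A0, R.C0, R.D0, R.E0, R.Z0]; simp

theorem conjZ (hA : Aux R) {t : F} (ht : t ≠ 0) : IsConj (R.Z t) (R.Z 1) := by
  obtain ⟨h, hh⟩ := hA.hZ t⁻¹ (inv_ne_zero ht)
  exact isConj_iff.mpr ⟨h, by rw [hh, inv_mul_cancel₀ ht]⟩

theorem conjE (hA : Aux R) {t : F} (ht : t ≠ 0) : IsConj (R.E t) (R.Z 1) := by
  obtain ⟨n, -, hn⟩ := hA.nbA
  exact (isConj_iff.mpr ⟨n, hn t⟩).trans (conjZ hA ht)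

theorem conjB (hA : Aux R) {t : F} (ht : t ≠ 0) : IsConj (R.B t) (R.Z 1) := by
  obtain ⟨n, hn, -⟩ := hA.naB
  exact (isConj_iff.mpr ⟨n, hn t⟩).trans (conjE hA ht)

theorem conjD (hA : Aux R) {t : F} (ht : t ≠ 0) : IsConj (R.D t) (R.D 1) := by
  obtain ⟨h, hh⟩ := hA.hD t⁻¹ (inv_ne_zero ht)
  exact isConj_iff.mpr ⟨h, by rw [hh, inv_mul_cancel₀ ht]⟩

theorem conjC (hA : Aux R) {t : F} (ht : t ≠ 0) : IsConj (R.C t) (R.D 1) := by
  obtain ⟨n, -, hn, -⟩ := hA.naB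
  exact (isConj_iff.mpr ⟨n, hn t⟩).trans (conjD hA ht)

theorem conjA (hA : Aux R) {t : F} (ht : t ≠ 0) : IsConj (R.A t) (R.D 1) := by
  obtain ⟨n, hn, -⟩ := hA.nbA
  exact (isConj_iff.mpr ⟨n, hn t⟩).trans (conjC hA ht)

/-- the conditions for a normal form to be an involution -/
theorem cond_of_sq (hA : Aux R) (b a c d e z : F)
    (hu : R.nf b a c d e z * R.nf b a c d e z = 1) :
    a * b = 0 ∧ a ^ 3 * b + a ^ 2 * c + a * d = 0 ∧
      a ^ 3 * b ^ 2 + a * c ^ 2 + c * d + b * e = 0 := by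
  rw [sq_nf] at hu
  obtain ⟨-, -, h1, -, h2, h3⟩ := hA.inj _ _ _ _ _ _ hu
  exact ⟨h1, h2, h3⟩

/-- the case `a = 0`, `b = 0` -/
theorem case00 (hA : Aux R) (c d e z : F)
    (hu : R.nf 0 0 c d e z * R.nf 0 0 c d e z = 1) (hne : R.nf 0 0 c d e z ≠ 1) :
    IsConj (R.nf 0 0 c d e z) (R.Z 1) ∨ IsConj (R.nf 0 0 c d e z) (R.D 1) := by
  have h2 : (2 : F) = 0 := two0
  obtain ⟨-, -, h3⟩ := cond_of_sq hA _ _ _ _ _ _ hu
  have hcd : c * d = 0 := by linear_combination h3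
  by_cases hc : c = 0
  · subst hc
    by_cases hd : d = 0
    · subst hd
      by_cases he : e = 0
      · subst he
        left
        rw [nf_Z] at hne ⊢
        refine conjZ hA ?_
        rintro rfl
        exact hne R.Z0
      · left
        have h1 : IsConj (R.nf 0 0 0 0 e z) (R.nf 0 0 0 0 e 0) := by
          refine isConj_iff.mpr ⟨R.E 0 * R.B (z / e), ?_⟩
          rw [R.E0, one_mul, cjB]
          congr 1 <;> first | ring | skip
          field_simp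
          linear_combination z * h2
        rw [nf_E] at h1
        exact h1.trans (conjE hA he)
    · right
      have h1 : IsConj (R.nf 0 0 0 d e z) (R.nf 0 0 0 d 0 z) := by
        refine isConj_iff.mpr ⟨R.A (e / d), ?_⟩
        rw [cjA]
        congr 1 <;> first | ring | skip
        field_simp
        linear_combination e * h2
      have h2' : IsConj (R.nf 0 0 0 d 0 z) (R.nf 0 0 0 d 0 0) := by
        refine isConj_iff.mpr ⟨R.C (z / d), ?_⟩
        rw [cjC]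
        congr 1 <;> first | ring | skip
        field_simp
        linear_combination z * h2
      rw [nf_D] at h2'
      exact (h1.trans h2').trans (conjD hA hd)
  · right
    have hd : d = 0 := by
      rcases mul_eq_zero.mp hcd with h | h
      · exact absurd h hc
      · exact h
    subst hd
    obtain ⟨w, hw⟩ := hA.sq (e / c)
    have hw' : w ^ 2 * c = e := by rw [hw]; field_simp
    have h1 : IsConj (R.nf 0 0 c 0 e z) (R.nf 0 0 c 0 0 (z + w * c ^ 2)) := by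
      refine isConj_iff.mpr ⟨R.A w, ?_⟩
      rw [cjA]
      congr 1 <;> first | ring | skip
      linear_combination hw' + e * h2
    have h2' : IsConj (R.nf 0 0 c 0 0 (z + w * c ^ 2)) (R.nf 0 0 c 0 0 0) := by
      refine isConj_iff.mpr ⟨R.D ((z + w * c ^ 2) / c), ?_⟩
      rw [cjD]
      congr 1 <;> first | ring | skip
      field_simp
      linear_combination (z + w * c ^ 2) * h2
    rw [nf_C] at h2'
    exact (h1.trans h2').trans (conjC hA hc)

/-- conjugation by the Weyl element `n_a` on normal forms without `A`-component -/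
theorem cj_na (hA : Aux R) (b d z : F) :
    IsConj (R.nf b 0 0 d 0 z) (R.nf 0 0 d 0 b z) := by
  obtain ⟨n, hB, -, hD, hZ⟩ := hA.naB
  refine isConj_iff.mpr ⟨n, ?_⟩
  have e1 : R.nf b 0 0 d 0 z = R.B b * R.D d * R.Z z := by
    unfold nf; rw [R.A0, R.C0, R.E0]; simp [mul_assoc]
  have e2 : R.nf 0 0 d 0 b z = R.E b * R.C d * R.Z z := by
    unfold nf; rw [R.B0, R.A0, R.D0]
    simp only [one_mul, mul_assoc]
    rw [← mul_assoc, ← R.cCE, mul_assoc]
  rw [e1, e2]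
  calc n * (R.B b * R.D d * R.Z z) * n⁻¹
      = (n * R.B b * n⁻¹) * (n * R.D d * n⁻¹) * (n * R.Z z * n⁻¹) := by group
    _ = R.E b * R.C d * R.Z z := by rw [hB, hD, hZ]

/-- the case `a = 0` -/
theorem case0 (hA : Aux R) (b c d e z : F)
    (hu : R.nf b 0 c d e z * R.nf b 0 c d e z = 1) (hne : R.nf b 0 c d e z ≠ 1) :
    IsConj (R.nf b 0 c d e z) (R.Z 1) ∨ IsConj (R.nf b 0 c d e z) (R.D 1) := by
  have h2 : (2 : F) = 0 := two0
  by_cases hb : b = 0
  · subst hb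
    exact case00 hA c d e z hu hne
  · -- kill `c`
    obtain ⟨w, hw⟩ : ∃ w : F, b * w = c := ⟨c / b, by field_simp⟩
    have h1 : IsConj (R.nf b 0 c d e z)
        (R.nf b 0 0 (d + b * w ^ 2) (e + b * w ^ 3 + w ^ 2 * c + w * d)
          (z + w * c ^ 2 + b ^ 2 * w ^ 3 + c * b * w ^ 2)) := by
      refine isConj_iff.mpr ⟨R.A w, ?_⟩
      rw [cjA]
      congr 1 <;> first | ring | skip
      linear_combination hw + c * h2
    set d' := d + b * w ^ 2
    set e' := e + b * w ^ 3 + w ^ 2 * c + w * d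
    set z' := z + w * c ^ 2 + b ^ 2 * w ^ 3 + c * b * w ^ 2
    -- the new element is again an involution
    have hu' : R.nf b 0 0 d' e' z' * R.nf b 0 0 d' e' z' = 1 := by
      obtain ⟨g, hg⟩ := isConj_iff.mp h1
      rw [← hg]
      calc g * R.nf b 0 c d e z * g⁻¹ * (g * R.nf b 0 c d e z * g⁻¹)
          = g * (R.nf b 0 c d e z * R.nf b 0 c d e z) * g⁻¹ := by group
        _ = 1 := by rw [hu]; group
    obtain ⟨-, -, h3⟩ := cond_of_sq hA _ _ _ _ _ _ hu'
    have he' : e' = 0 := by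
      have : b * e' = 0 := by linear_combination h3
      rcases mul_eq_zero.mp this with h | h
      · exact absurd h hb
      · exact h
    rw [he'] at h1
    by_cases hd' : d' = 0
    · left
      rw [hd'] at h1
      have h4 : IsConj (R.nf b 0 0 0 0 z') (R.nf b 0 0 0 0 0) := by
        refine isConj_iff.mpr ⟨R.E (z' / b), ?_⟩
        rw [cjE]
        congr 1
        field_simp
        linear_combination z' * h2
      rw [nf_B] at h4
      exact (h1.trans h4).trans (conjB hA hb)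
    · have h4 := cj_na hA b d' z'
      have h5 := h1.trans h4
      have hu'' : R.nf 0 0 d' 0 b z' * R.nf 0 0 d' 0 b z' = 1 := by
        obtain ⟨g, hg⟩ := isConj_iff.mp h5
        rw [← hg]
        calc g * R.nf b 0 c d e z * g⁻¹ * (g * R.nf b 0 c d e z * g⁻¹)
            = g * (R.nf b 0 c d e z * R.nf b 0 c d e z) * g⁻¹ := by group
          _ = 1 := by rw [hu]; group
      have hne'' : R.nf 0 0 d' 0 b z' ≠ 1 := by
        intro h
        obtain ⟨-, -, h6, -⟩ := hA.inj _ _ _ _ _ _ h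
        exact hd' h6
      rcases case00 hA d' 0 b z' hu'' hne'' with h | h
      · exact Or.inl (h5.trans h)
      · exact Or.inr (h5.trans h)

/-- the case `a ≠ 0` -/
theorem case1 (hA : Aux R) (b a c d e z : F) (ha : a ≠ 0)
    (hu : R.nf b a c d e z * R.nf b a c d e z = 1) :
    IsConj (R.nf b a c d e z) (R.D 1) := by
  have h2 : (2 : F) = 0 := two0
  obtain ⟨h1, h3, -⟩ := cond_of_sq hA _ _ _ _ _ _ hu
  have hb : b = 0 := by
    rcases mul_eq_zero.mp h1 with h | h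
    · exact absurd h ha
    · exact h
  subst hb
  have hd : d = a * c := by
    have : a * (a * c + d) = 0 := by linear_combination h3
    rcases mul_eq_zero.mp this with h | h
    · exact absurd h ha
    · linear_combination h - (a * c) * h2
  subst hd
  obtain ⟨w, hw⟩ : ∃ w : F, w * a = c := ⟨c / a, by field_simp⟩
  have s1 : IsConj (R.nf 0 a c (a * c) e z)
      (R.nf 0 a 0 0 (e + w * a ^ 3) (z + w * e + c * w * a ^ 2)) := by
    refine isConj_iff.mpr ⟨R.B w, ?_⟩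
    rw [cjB]
    congr 1
    · linear_combination hw + c * h2
    · linear_combination a * hw + (a * c) * h2
  set e1 := e + w * a ^ 3
  set z1 := z + w * e + c * w * a ^ 2
  obtain ⟨w1, hw1⟩ : ∃ w1 : F, a * w1 = e1 := ⟨e1 / a, by field_simp⟩
  have s2 : IsConj (R.nf 0 a 0 0 e1 z1) (R.nf 0 a 0 0 0 z1) := by
    refine isConj_iff.mpr ⟨R.D w1, ?_⟩
    rw [cjD]
    congr 1
    · linear_combination hw1 + e1 * h2
    · ring
  obtain ⟨w2, hw2⟩ := hA.sq (z1 / a)
  have hw2' : a * w2 ^ 2 = z1 := by rw [hw2]; field_simp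
  have s3 : IsConj (R.nf 0 a 0 0 0 z1) (R.nf 0 a 0 0 (a ^ 2 * w2) 0) := by
    refine isConj_iff.mpr ⟨R.C w2, ?_⟩
    rw [cjC]
    congr 1
    · ring
    · linear_combination hw2' + z1 * h2
  have s4 : IsConj (R.nf 0 a 0 0 (a ^ 2 * w2) 0) (R.nf 0 a 0 0 0 0) := by
    refine isConj_iff.mpr ⟨R.D (a * w2), ?_⟩
    rw [cjD]
    congr 1
    · linear_combination (a ^ 2 * w2) * h2
    · ring
  rw [nf_A] at s4
  exact (((s1.trans s2).trans s3).trans s4).trans (conjA hA ha)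

/-- every involution in normal form is conjugate to `Z 1` or to `D 1` -/
theorem main (hA : Aux R) (b a c d e z : F)
    (hu : R.nf b a c d e z * R.nf b a c d e z = 1) (hne : R.nf b a c d e z ≠ 1) :
    IsConj (R.nf b a c d e z) (R.Z 1) ∨ IsConj (R.nf b a c d e z) (R.D 1) := by
  by_cases ha : a = 0
  · subst ha
    exact case0 hA b c d e z hu hne
  · exact Or.inr (case1 hA b a c d e z ha hu)

end char2

end Rel

end Cfsg.Agent.Helper4.G2Inv
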