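import Cfsg.Agent.Helper4.G2Inv.Abs
import Cfsg.Agent.Helper18.Core
import Cfsg.Agent.Helper18.Graded
import Cfsg.Agent.S1025

/-!
The positive root elements of `G₂(F)`, `char F = 2`, satisfy the abstract relations of
`Cfsg.Agent.Helper4.G2Inv.Rel`.
-/

set_option autoImplicit false

namespace Cfsg.Agent.Helper4.G2Inv

open Cfsg Cfsg.Lie Cfsg.Agent.Helper18

variable {F : Type*} [Field F]

theorem hG2 : chevG2 ∈ [chevG2, chevB2, chevD4, chevF4, chevE6, chevE7, chevE8] := by simp

/-- the root elements as elements of the group -/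
noncomputable def X (r : ℕ) (t : F) : ↥(chevG2.group F) :=
  ⟨xGL chevG2 F r t, xGL_mem_group' chevG2 hG2 r t⟩

theorem X_add (r : ℕ) (s t : F) : X r (s + t) = X r s * X r t := by
  apply Subtype.ext
  exact (xGL_mul_add chevG2 hG2 r s t).symm

/-- the commutator formula in `GL` -/
theorem comm_GL (r s : ℕ) (hr : r < 12) (hs : s < 12) (h1 : s ≠ r) (h2 : s ≠ chevG2.neg r) (t u : F) :
    xGL chevG2 F s u * xGL chevG2 F r t =
      xGL chevG2 F r t * xGL chevG2 F s u * wordGL chevG2 F (chevG2.commWord F r s t u) := by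
  have htri := triOK_of_mem chevG2 hG2
  apply Units.ext
  simp only [Units.val_mul, xGL_val chevG2 _ htri, wordGL_val chevG2 _ htri]
  exact Cfsg.Agent.S1025.result chevG2 hG2 r s hr hs h1 h2 t u

theorem ct67 : chevG2.commTerms 6 7 = [(8, 1, 1, 1), (9, 1, 1, 2), (10, -1, 1, 3), (11, -2, 2, 3)] := by
  decide +kernel
theorem ct78 : chevG2.commTerms 7 8 = [(9, -2, 1, 1), (10, -3, 2, 1), (11, 3, 1, 2)] := by decide +kernel
theorem ct79 : chevG2.commTerms 7 9 = [(10, 3, 1, 1)] := by decide +kernel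
theorem ct89 : chevG2.commTerms 8 9 = [(11, 3, 1, 1)] := by decide +kernel
theorem ct610 : chevG2.commTerms 6 10 = [(11, 1, 1, 1)] := by decide +kernel
theorem ct_nil : ∀ p ∈ [(6, 8), (6, 9), (6, 11), (7, 10), (7, 11), (8, 10), (8, 11), (9, 10), (9, 11),
    (10, 11)], chevG2.commTerms p.1 p.2 = [] := by decide +kernel


section char2

variable [CharP F 2]

theorem neg2 (t : F) : -t = t := CharTwo.neg_eq t

theorem c2 : ((2 : ℤ) : F) = 0 := by
  push_cast
  exact CharTwo.two_eq_zero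

theorem c3 : ((3 : ℤ) : F) = 1 := by
  push_cast
  have h : (2 : F) = 0 := CharTwo.two_eq_zero
  linear_combination h

theorem xGL0 (r : ℕ) : xGL chevG2 F r 0 = 1 := by
  have := xGL_mul_add (F := F) chevG2 hG2 r 0 0
  rw [add_zero] at this
  exact mul_eq_left.mp this

theorem rel67 (t u : F) :
    xGL chevG2 F 7 u * xGL chevG2 F 6 t =
      xGL chevG2 F 6 t * xGL chevG2 F 7 u * xGL chevG2 F 8 (t * u) * xGL chevG2 F 9 (t * u ^ 2) *
        xGL chevG2 F 10 (t * u ^ 3) := by
  rw [comm_GL 6 7 (by norm_num) (by norm_num) (by norm_num) (by decide) t u]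
  unfold ChevalleyDatum.commWord
  rw [ct67]
  simp only [wordGL, List.map_cons, List.map_nil, List.prod_cons, List.prod_nil, mul_one, neg2,
    Int.cast_one, one_mul, pow_one, c2, c3, Int.cast_neg, zero_mul, xGL0, mul_assoc]

theorem rel78 (t u : F) :
    xGL chevG2 F 8 u * xGL chevG2 F 7 t =
      xGL chevG2 F 7 t * xGL chevG2 F 8 u * xGL chevG2 F 10 (t ^ 2 * u) *
        xGL chevG2 F 11 (t * u ^ 2) := by
  rw [comm_GL 7 8 (by norm_num) (by norm_num) (by norm_num) (by decide) t u]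
  unfold ChevalleyDatum.commWord
  rw [ct78]
  simp only [wordGL, List.map_cons, List.map_nil, List.prod_cons, List.prod_nil, mul_one, neg2,
    Int.cast_one, one_mul, pow_one, c2, c3, Int.cast_neg, zero_mul, xGL0, mul_assoc]

theorem rel79 (t u : F) :
    xGL chevG2 F 9 u * xGL chevG2 F 7 t =
      xGL chevG2 F 7 t * xGL chevG2 F 9 u * xGL chevG2 F 10 (t * u) := by
  rw [comm_GL 7 9 (by norm_num) (by norm_num) (by norm_num) (by decide) t u]
  unfold ChevalleyDatum.commWord
  rw [ct79]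
  simp only [wordGL, List.map_cons, List.map_nil, List.prod_cons, List.prod_nil, mul_one, neg2,
    Int.cast_one, one_mul, pow_one, c2, c3, Int.cast_neg, zero_mul, xGL0, mul_assoc]

theorem rel89 (t u : F) :
    xGL chevG2 F 9 u * xGL chevG2 F 8 t =
      xGL chevG2 F 8 t * xGL chevG2 F 9 u * xGL chevG2 F 11 (t * u) := by
  rw [comm_GL 8 9 (by norm_num) (by norm_num) (by norm_num) (by decide) t u]
  unfold ChevalleyDatum.commWord
  rw [ct89]
  simp only [wordGL, List.map_cons, List.map_nil, List.prod_cons, List.prod_nil, mul_one, neg2,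
    Int.cast_one, one_mul, pow_one, c2, c3, Int.cast_neg, zero_mul, xGL0, mul_assoc]

theorem rel610 (t u : F) :
    xGL chevG2 F 10 u * xGL chevG2 F 6 t =
      xGL chevG2 F 6 t * xGL chevG2 F 10 u * xGL chevG2 F 11 (t * u) := by
  rw [comm_GL 6 10 (by norm_num) (by norm_num) (by norm_num) (by decide) t u]
  unfold ChevalleyDatum.commWord
  rw [ct610]
  simp only [wordGL, List.map_cons, List.map_nil, List.prod_cons, List.prod_nil, mul_one, neg2,
    Int.cast_one, one_mul, pow_one, c2, c3, Int.cast_neg, zero_mul, xGL0, mul_assoc]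

theorem rel_comm (r s : ℕ) (h : (r, s) ∈ [(6, 8), (6, 9), (6, 11), (7, 10), (7, 11), (8, 10), (8, 11),
    (9, 10), (9, 11), (10, 11)]) (t u : F) :
    xGL chevG2 F s u * xGL chevG2 F r t = xGL chevG2 F r t * xGL chevG2 F s u := by
  have hct := ct_nil (r, s) h
  have hr : r < 12 := by
    simp only [List.mem_cons, Prod.mk.injEq, List.not_mem_nil, or_false] at h
    omega
  have hs : s < 12 := by
    simp only [List.mem_cons, Prod.mk.injEq, List.not_mem_nil, or_false] at h
    omega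
  have h1 : s ≠ r := by
    simp only [List.mem_cons, Prod.mk.injEq, List.not_mem_nil, or_false] at h
    omega
  have h2 : s ≠ chevG2.neg r := by
    simp only [List.mem_cons, Prod.mk.injEq, List.not_mem_nil, or_false] at h
    rcases h with ⟨rfl, rfl⟩ | ⟨rfl, rfl⟩ | ⟨rfl, rfl⟩ | ⟨rfl, rfl⟩ | ⟨rfl, rfl⟩ | ⟨rfl, rfl⟩ |
      ⟨rfl, rfl⟩ | ⟨rfl, rfl⟩ | ⟨rfl, rfl⟩ | ⟨rfl, rfl⟩ <;> decide
  rw [comm_GL r s hr hs h1 h2 t u]
  unfold ChevalleyDatum.commWord
  rw [hct]
  simp [wordGL]


/-- the abstract relations hold in `G₂(F)` -/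
noncomputable def g2Rel : Rel F ↥(chevG2.group F) where
  B := X 6
  A := X 7
  C := X 8
  D := X 9
  E := X 10
  Z := X 11
  addB := X_add 6
  addA := X_add 7
  addC := X_add 8
  addD := X_add 9
  addE := X_add 10
  addZ := X_add 11
  rAB t u := Subtype.ext (rel67 t u)
  rCA t u := Subtype.ext (rel78 t u)
  rDA t u := Subtype.ext (rel79 t u)
  rDC t u := Subtype.ext (rel89 t u)
  rEB t u := Subtype.ext (rel610 t u)
  cAE t u := Subtype.ext (rel_comm 7 10 (by simp) t u)
  cAZ t u := Subtype.ext (rel_comm 7 11 (by simp) t u)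
  cBC t u := Subtype.ext (rel_comm 6 8 (by simp) t u)
  cBD t u := Subtype.ext (rel_comm 6 9 (by simp) t u)
  cBZ t u := Subtype.ext (rel_comm 6 11 (by simp) t u)
  cCE t u := Subtype.ext (rel_comm 8 10 (by simp) t u)
  cCZ t u := Subtype.ext (rel_comm 8 11 (by simp) t u)
  cDE t u := Subtype.ext (rel_comm 9 10 (by simp) t u)
  cDZ t u := Subtype.ext (rel_comm 9 11 (by simp) t u)
  cEZ t u := Subtype.ext (rel_comm 10 11 (by simp) t u)

end char2

end Cfsg.Agent.Helper4.G2Inv
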