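import Cfsg.Agent.Helper4.G2Inv.Conc1
import Cfsg.Agent.S1026
import Cfsg.Agent.S1031
import Cfsg.Agent.S1032
import Cfsg.Agent.Helper18.NuRel

set_option autoImplicit false

namespace Cfsg.Agent.Helper4.G2Inv

open Cfsg Cfsg.Lie Cfsg.Agent.Helper18

variable {F : Type*} [Field F]

theorem posRoots_G2 : chevG2.posRoots = [6, 7, 8, 9, 10, 11] := by decide +kernel

theorem isPos_iff (r : ℕ) : chevG2.IsPosRoot r ↔ r ∈ [6, 7, 8, 9, 10, 11] := by
  rw [← posRoots_G2]
  unfold ChevalleyDatum.posRoots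
  simp only [List.mem_filter, List.mem_range, decide_eq_true_eq]
  constructor
  · intro h; exact ⟨h.1, h⟩
  · intro h; exact h.2

theorem refl_tab : chevG2.reflectRoot 0 6 = 10 ∧ chevG2.reflectRoot 0 8 = 9 ∧ chevG2.reflectRoot 0 9 = 8 ∧
    chevG2.reflectRoot 0 11 = 11 ∧ chevG2.reflectRoot 1 7 = 8 ∧ chevG2.reflectRoot 1 10 = 11 := by
  decide +kernel

theorem cartan_tab : chevG2.cartan 1 11 = 1 ∧ chevG2.cartan 0 9 = 1 ∧ chevG2.simple 0 = 7 ∧ chevG2.simple 1 = 6 := by
  decide +kernel

theorem htri : Cfsg.Agent.Helper18.triOK chevG2 (hlfOf chevG2) = true := triOK_of_mem chevG2 hG2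

theorem X_val (r : ℕ) (t : F) : ((X r t : ↥(chevG2.group F)) : GL chevG2.Idx F) = xGL chevG2 F r t := rfl

theorem X_mat (r : ℕ) (t : F) :
    (((X r t : ↥(chevG2.group F)) : GL chevG2.Idx F) : Matrix chevG2.Idx chevG2.Idx F) = chevG2.x F r t := by
  rw [X_val, xGL_val chevG2 _ htri]

/-- the parameter function of a normal form -/
def par (b a c d e z : F) : ℕ → F := fun r =>
  if r = 6 then b else if r = 7 then a else if r = 8 then c else if r = 9 then d else if r = 10 then e
  else if r = 11 then z else 0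

section char2
variable [CharP F 2]

theorem nf_mat (b a c d e z : F) :
    (((g2Rel.nf b a c d e z : ↥(chevG2.group F)) : GL chevG2.Idx F) : Matrix chevG2.Idx chevG2.Idx F) =
      chevG2.wordMat F (chevG2.posRoots.map fun r => (r, par b a c d e z r)) := by
  rw [posRoots_G2]
  unfold Rel.nf g2Rel
  simp only [Subgroup.coe_mul, Units.val_mul, X_mat, ChevalleyDatum.wordMat, List.map_cons, List.map_nil,
    List.prod_cons, List.prod_nil, mul_one, par]
  norm_num

theorem nf_mem_U (b a c d e z : F) :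
    ((g2Rel.nf b a c d e z : ↥(chevG2.group F)) : GL chevG2.Idx F) ∈ chevG2.posUnipotent F := by
  unfold Rel.nf g2Rel
  simp only [Subgroup.coe_mul]
  have h : ∀ r ∈ [6, 7, 8, 9, 10, 11], ∀ t : F,
      ((X r t : ↥(chevG2.group F)) : GL chevG2.Idx F) ∈ chevG2.posUnipotent F := by
    intro r hr t
    exact Subgroup.subset_closure ⟨r, t, (isPos_iff r).mpr hr, X_mat r t⟩
  exact mul_mem (h 6 (by simp) _) (mul_mem (h 7 (by simp) _) (mul_mem (h 8 (by simp) _)
    (mul_mem (h 9 (by simp) _) (mul_mem (h 10 (by simp) _) (h 11 (by simp) _)))))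

omit [CharP F 2] in
theorem par_pos (b a c d e z : F) : ∀ r, ¬ chevG2.IsPosRoot r → par b a c d e z r = 0 := by
  intro r hr
  rw [isPos_iff] at hr
  simp only [List.mem_cons, List.not_mem_nil, or_false, not_or] at hr
  simp [par, hr]

theorem nf_inj (b a c d e z b' a' c' d' e' z' : F)
    (h : (g2Rel.nf b a c d e z : ↥(chevG2.group F)) = g2Rel.nf b' a' c' d' e' z') :
    b = b' ∧ a = a' ∧ c = c' ∧ d = d' ∧ e = e' ∧ z = z' := by
  obtain ⟨t, -, huniq⟩ := (Cfsg.Agent.S1026.result (F := F) chevG2 hG2).1 _ (nf_mem_U b a c d e z)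
  have h1 := huniq (par b a c d e z) ⟨par_pos b a c d e z, nf_mat b a c d e z⟩
  have h2 := huniq (par b' a' c' d' e' z') ⟨par_pos b' a' c' d' e' z', by rw [h]; exact nf_mat b' a' c' d' e' z'⟩
  have h3 : par b a c d e z = par b' a' c' d' e' z' := h1.trans h2.symm
  refine ⟨?_, ?_, ?_, ?_, ?_, ?_⟩
  · simpa [par] using congrFun h3 6
  · simpa [par] using congrFun h3 7
  · simpa [par] using congrFun h3 8
  · simpa [par] using congrFun h3 9
  · simpa [par] using congrFun h3 10
  · simpa [par] using congrFun h3 11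

/-- the Weyl element `n_i` in the group -/
noncomputable def nG (i : ℕ) (hi : chevG2.simple i < chevG2.nroots) : ↥(chevG2.group F) :=
  ⟨wordGL chevG2 F (chevG2.nWord (chevG2.simple i) 1),
    (Cfsg.Agent.S1043.result (F := F) chevG2 hG2).2.1 (nGL_mem_monomialSubgroup chevG2 hG2 _ hi)⟩

theorem nG_conj (i : ℕ) (hi : i < chevG2.rank) (hi' : chevG2.simple i < chevG2.nroots) (s : ℕ)
    (hs : s < chevG2.nroots) (t : F) :
    nG i hi' * X s t * (nG i hi')⁻¹ = X (chevG2.reflectRoot i s) t := by
  obtain ⟨η, hη, h⟩ := Cfsg.Agent.S1031.result (F := F) chevG2 hG2 i s hi hs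
  have hη1 : ((η : ℤ) : F) = 1 := by
    rcases hη with rfl | rfl
    · simp
    · simp [neg2]
  rw [mul_inv_eq_iff_eq_mul]
  apply Subtype.ext
  apply Units.ext
  simp only [Subgroup.coe_mul, Units.val_mul, X_mat]
  have := h t
  rw [hη1, one_mul] at this
  rw [nG]
  simp only [nWordGL_val chevG2 hG2]
  exact this

/-- the torus element `h_i(c)` in the group -/
noncomputable def hG (i : ℕ) (c : F) : ↥(chevG2.group F) :=
  ⟨wordGL chevG2 F (chevG2.hWord (chevG2.simple i) c), by
    unfold wordGL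
    apply list_prod_mem
    intro x hx
    simp only [List.mem_map] at hx
    obtain ⟨p, -, rfl⟩ := hx
    exact xGL_mem_group' chevG2 hG2 _ _⟩

omit [CharP F 2] in
theorem hG_conj (i : ℕ) (hi : i < chevG2.rank) (s : ℕ) (hs : s < chevG2.nroots) (c : F) (hc : c ≠ 0) (t : F) :
    hG i c * X s t * (hG i c)⁻¹ = X s (c ^ (chevG2.cartan i s) * t) := by
  have h := Cfsg.Agent.S1032.result (F := F) chevG2 hG2 i s hi hs c hc t
  rw [mul_inv_eq_iff_eq_mul]
  apply Subtype.ext
  apply Units.ext
  simp only [Subgroup.coe_mul, Units.val_mul, X_mat]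
  rw [hG]
  simp only [hWordGL_val chevG2 hG2]
  exact h

theorem g2Aux [Finite F] : (g2Rel (F := F)).Aux where
  sq c := by
    have : Fact (Nat.Prime 2) := ⟨Nat.prime_two⟩
    obtain ⟨s, hs⟩ := surjective_frobenius F 2 c
    exact ⟨s, hs⟩
  inj b a c d e z h := by
    have h1 : (g2Rel.nf b a c d e z : ↥(chevG2.group F)) = g2Rel.nf 0 0 0 0 0 0 := by
      rw [h]
      unfold Rel.nf
      simp [Rel.B0, Rel.A0, Rel.C0, Rel.D0, Rel.E0, Rel.Z0]
    exact nf_inj _ _ _ _ _ _ _ _ _ _ _ _ h1
  naB := by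
    refine ⟨nG 0 (by decide +kernel), fun t => ?_, fun t => ?_, fun t => ?_, fun t => ?_⟩
    · have := nG_conj (F := F) 0 (by decide +kernel) (by decide +kernel) 6 (by decide +kernel) t
      rw [refl_tab.1] at this
      exact this
    · have := nG_conj (F := F) 0 (by decide +kernel) (by decide +kernel) 8 (by decide +kernel) t
      rw [refl_tab.2.1] at this
      exact this
    · have := nG_conj (F := F) 0 (by decide +kernel) (by decide +kernel) 9 (by decide +kernel) t
      rw [refl_tab.2.2.1] at this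
      exact this
    · have := nG_conj (F := F) 0 (by decide +kernel) (by decide +kernel) 11 (by decide +kernel) t
      rw [refl_tab.2.2.2.1] at this
      exact this
  nbA := by
    refine ⟨nG 1 (by decide +kernel), fun t => ?_, fun t => ?_⟩
    · have := nG_conj (F := F) 1 (by decide +kernel) (by decide +kernel) 7 (by decide +kernel) t
      rw [refl_tab.2.2.2.2.1] at this
      exact this
    · have := nG_conj (F := F) 1 (by decide +kernel) (by decide +kernel) 10 (by decide +kernel) t
      rw [refl_tab.2.2.2.2.2] at this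
      exact this
  hZ c hc := by
    refine ⟨hG 1 c, fun t => ?_⟩
    have := hG_conj (F := F) 1 (by decide +kernel) 11 (by decide +kernel) c hc t
    rw [cartan_tab.1, zpow_one] at this
    exact this
  hD c hc := by
    refine ⟨hG 0 c, fun t => ?_⟩
    have := hG_conj (F := F) 0 (by decide +kernel) 9 (by decide +kernel) c hc t
    rw [cartan_tab.2.1, zpow_one] at this
    exact this

end char2

end Cfsg.Agent.Helper4.G2Inv
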