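import Cfsg.Agent.Helper4.G2Inv.Conc2
import Cfsg.Agent.S1027
import Cfsg.Agent.S1059

set_option autoImplicit false

namespace Cfsg.Agent.Helper4.G2Inv

open Cfsg Cfsg.Lie Cfsg.Agent.Helper18
open scoped Pointwise

/-- an element of order `p` is conjugate into any `p`-subgroup of index prime to `p` -/
theorem exists_conj_mem_of_index {G : Type*} [Group G] [Finite G] {p : ℕ} [Fact p.Prime]
    (P : Subgroup G) (hP : IsPGroup p P) (hidx : ¬ p ∣ P.index) (g : G) (hg : orderOf g = p) :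
    ∃ k : G, k * g * k⁻¹ ∈ P := by
  have hz : IsPGroup p (Subgroup.zpowers g) := by
    apply IsPGroup.of_card (n := 1)
    rw [Nat.card_zpowers, hg, pow_one]
  obtain ⟨Q, hQ⟩ := hz.exists_le_sylow
  obtain ⟨k, hk⟩ := MulAction.exists_smul_eq G Q (hP.toSylow hidx)
  refine ⟨k, ?_⟩
  have h1 : g ∈ (Q : Subgroup G) := hQ (Subgroup.mem_zpowers g)
  have h2 : k * g * k⁻¹ ∈ ((k • Q : Sylow p G) : Subgroup G) := by
    rw [Sylow.coe_subgroup_smul, Subgroup.mem_pointwise_smul_iff_inv_smul_mem]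
    simpa [MulAut.smul_def, mul_assoc] using h1
  rw [hk] at h2
  exact h2

variable {F : Type*} [Field F]

theorem U_le_G : chevG2.posUnipotent F ≤ chevG2.group F :=
  le_trans le_sup_left (Cfsg.Agent.S1043.result (F := F) chevG2 hG2).1

/-- `U` as a subgroup of `G` -/
noncomputable def UG : Subgroup ↥(chevG2.group F) := (chevG2.posUnipotent F).subgroupOf (chevG2.group F)

variable [Fintype F] [CharP F 2]

omit [CharP F 2] in
theorem card_UG : Nat.card (UG (F := F)) = Fintype.card F ^ 6 := by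
  unfold UG
  rw [Nat.card_congr (Subgroup.subgroupOfEquivOfLe (U_le_G (F := F))).toEquiv,
    Cfsg.Agent.S1027.result chevG2 hG2]
  rfl

theorem card_F : ∃ n : ℕ, 0 < n ∧ Fintype.card F = 2 ^ n := by
  obtain ⟨n, -, hn⟩ := FiniteField.card F 2
  exact ⟨n, n.pos, hn⟩

theorem UG_pgroup : IsPGroup 2 (UG (F := F)) := by
  obtain ⟨n, -, hn⟩ := card_F (F := F)
  apply IsPGroup.of_card (n := n * 6)
  rw [card_UG, hn, pow_mul]

theorem UG_index : ¬ 2 ∣ (UG (F := F)).index := by
  obtain ⟨n, hn0, hn⟩ := card_F (F := F)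
  have h1 := Subgroup.index_mul_card (UG (F := F))
  rw [card_UG, Cfsg.Agent.S1059.result (F := F) rfl] at h1
  set q := Fintype.card F with hq
  have hq0 : 0 < q := Fintype.card_pos
  have h2 : (UG (F := F)).index = (q ^ 2 - 1) * (q ^ 6 - 1) := by
    have h3 : (UG (F := F)).index * q ^ 6 = ((q ^ 2 - 1) * (q ^ 6 - 1)) * q ^ 6 := by
      rw [h1]; ring
    exact Nat.eq_of_mul_eq_mul_right (pow_pos hq0 6) h3
  rw [h2]
  have hqe : 2 ∣ q := by rw [hn]; exact dvd_pow_self 2 hn0.ne'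
  have ho : ∀ k : ℕ, 0 < k → ¬ 2 ∣ q ^ k - 1 := by
    intro k hk hdiv
    have h4 : 2 ∣ q ^ k := dvd_pow hqe hk.ne'
    have h5 : 1 ≤ q ^ k := Nat.one_le_pow _ _ hq0
    omega
  intro hdiv
  rcases (Nat.Prime.dvd_mul Nat.prime_two).mp hdiv with h | h
  · exact ho 2 (by norm_num) h
  · exact ho 6 (by norm_num) h

/-- every involution of `G` is conjugate into `U` -/
theorem exists_conj_mem_UG (g : ↥(chevG2.group F)) (hg : orderOf g = 2) :
    ∃ k : ↥(chevG2.group F), k * g * k⁻¹ ∈ UG (F := F) := by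
  have : Fact (Nat.Prime 2) := ⟨Nat.prime_two⟩
  exact exists_conj_mem_of_index _ UG_pgroup UG_index g hg

omit [Fintype F] in
/-- every element of `U` is a normal form -/
theorem exists_nf_of_mem (u : ↥(chevG2.group F)) (hu : u ∈ UG (F := F)) :
    ∃ b a c d e z : F, u = g2Rel.nf b a c d e z := by
  unfold UG at hu
  rw [Subgroup.mem_subgroupOf] at hu
  obtain ⟨t, ⟨-, ht⟩, -⟩ := (Cfsg.Agent.S1026.result (F := F) chevG2 hG2).1 _ hu
  refine ⟨t 6, t 7, t 8, t 9, t 10, t 11, ?_⟩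
  apply Subtype.ext
  apply Units.ext
  rw [ht, nf_mat]
  congr 1

/-- every involution of `G` is conjugate to `x₁₁(1)` or to `x₉(1)` -/
theorem invol_conj (g : ↥(chevG2.group F)) (hg : orderOf g = 2) :
    IsConj g (X 11 1) ∨ IsConj g (X 9 1) := by
  obtain ⟨k, hk⟩ := exists_conj_mem_UG g hg
  obtain ⟨b, a, c, d, e, z, hnf⟩ := exists_nf_of_mem _ hk
  have hc : IsConj g (g2Rel.nf b a c d e z) := by
    rw [isConj_iff]
    exact ⟨k, hnf⟩
  have hg2 : g ^ 2 = 1 := by rw [← hg]; exact pow_orderOf_eq_one g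
  have hg1 : g ≠ 1 := by
    intro h
    rw [h, orderOf_one] at hg
    norm_num at hg
  have hu : (g2Rel.nf b a c d e z : ↥(chevG2.group F)) * g2Rel.nf b a c d e z = 1 := by
    rw [← hnf]
    rw [pow_two] at hg2
    calc k * g * k⁻¹ * (k * g * k⁻¹) = k * (g * g) * k⁻¹ := by group
      _ = 1 := by rw [hg2]; group
  have hne : (g2Rel.nf b a c d e z : ↥(chevG2.group F)) ≠ 1 := by
    rw [← hnf]
    intro h
    apply hg1
    have : g = k⁻¹ * (k * g * k⁻¹) * k := by group
    rw [this, h]; group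
  rcases Rel.main g2Aux b a c d e z hu hne with h | h
  · left; exact hc.trans h
  · right; exact hc.trans h

end Cfsg.Agent.Helper4.G2Inv
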