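import Cfsg.Agent.Helper4.G2Inv.Conc3
import Cfsg.Agent.Helper18.Ree.WeylG2
import Cfsg.Agent.S1100

set_option autoImplicit false

namespace Cfsg.Agent.Helper4.G2Inv

open Cfsg Cfsg.Lie Cfsg.Agent.Helper18 Cfsg.Agent.Helper18.Ree Cfsg.Agent.Helper19.Cox Cfsg.Agent.Helper19.Poinc

variable {F : Type*} [Field F]

theorem long_orbit : ∀ T ∈ weylTabs, T.getD 11 0 ∈ [0, 1, 5, 6, 10, 11] := by decide +kernel

/-- conjugation by an element of `N` maps `x₁₁(1)` to a long root element -/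
theorem n_conj_long (n : GL chevG2.Idx F) (hn : n ∈ chevG2.monomialSubgroup F) :
    ∃ s ∈ [0, 1, 5, 6, 10, 11], ∃ t' : F, n * xGL chevG2 F 11 1 * n⁻¹ = xGL chevG2 F s t' := by
  obtain ⟨-, t', h⟩ := thetaG2_conj (F := F) ⟨n, hn⟩ 11 (by norm_num) 1
  obtain ⟨w, hw, hgw⟩ := exists_word certG2.M (thetaG2 (F := F) ⟨n, hn⟩)
  rw [← hgw, phiG2_gp w hw 11 (by norm_num), ← tabOf_getD w 11 (by norm_num)] at h
  exact ⟨_, long_orbit _ (tabOf_mem w hw), t', h⟩

section char2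
variable [CharP F 2]

theorem xGL_sq (r : ℕ) (t : F) : xGL chevG2 F r t * xGL chevG2 F r t = 1 := by
  rw [xGL_mul_add chevG2 hG2, CharTwo.add_self_eq_zero, xGL0]

theorem xGL_inv (r : ℕ) (t : F) : (xGL chevG2 F r t)⁻¹ = xGL chevG2 F r t :=
  inv_eq_of_mul_eq_one_right (xGL_sq r t)

/-- `x₁₁(t)` is central in `U` -/
theorem U_comm (u : GL chevG2.Idx F) (hu : u ∈ chevG2.posUnipotent F) (t : F) :
    u * xGL chevG2 F 11 t = xGL chevG2 F 11 t * u := by
  have hle : chevG2.posUnipotent F ≤ Subgroup.centralizer {xGL chevG2 F 11 t} := by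
    unfold ChevalleyDatum.posUnipotent
    rw [Subgroup.closure_le]
    rintro g ⟨r, a, hr, hg⟩
    have hg' : g = xGL chevG2 F r a := Units.ext (by rw [hg, xGL_val chevG2 _ htri])
    rw [hg']
    rw [SetLike.mem_coe, Subgroup.mem_centralizer_iff]
    intro y hy
    rw [Set.mem_singleton_iff] at hy
    rw [hy]
    rw [isPos_iff] at hr
    simp only [List.mem_cons, List.not_mem_nil, or_false] at hr
    rcases hr with rfl | rfl | rfl | rfl | rfl | rfl
    · exact rel_comm 6 11 (by simp) a t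
    · exact rel_comm 7 11 (by simp) a t
    · exact rel_comm 8 11 (by simp) a t
    · exact rel_comm 9 11 (by simp) a t
    · exact rel_comm 10 11 (by simp) a t
    · rw [xGL_mul_add chevG2 hG2, xGL_mul_add chevG2 hG2, add_comm]
  have := hle hu
  rw [Subgroup.mem_centralizer_iff] at this
  exact (this _ rfl).symm

/-- the normal forms with `b = a = c = 0` -/
noncomputable def N3 (d e z : F) : GL chevG2.Idx F :=
  xGL chevG2 F 9 d * (xGL chevG2 F 10 e * xGL chevG2 F 11 z)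

theorem coe_nf3 (d e z : F) :
    ((g2Rel.nf 0 0 0 d e z : ↥(chevG2.group F)) : GL chevG2.Idx F) = N3 d e z := by
  unfold Rel.nf
  rw [Rel.B0, Rel.A0, Rel.C0, one_mul, one_mul, one_mul]
  rfl

/-- the conjugation property of elements of `B` -/
def Pb (b : GL chevG2.Idx F) : Prop :=
  ∀ d e z : F, ∃ d' e' z' : F, (d ≠ 0 → d' ≠ 0) ∧ b * N3 d e z * b⁻¹ = N3 d' e' z'

omit [CharP F 2] in
theorem Pb_one : Pb (1 : GL chevG2.Idx F) := fun d e z => ⟨d, e, z, id, by simp⟩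

omit [CharP F 2] in
theorem Pb_mul (x y : GL chevG2.Idx F) (hx : Pb x) (hy : Pb y) : Pb (x * y) := by
  intro d e z
  obtain ⟨d1, e1, z1, h1, h1'⟩ := hy d e z
  obtain ⟨d2, e2, z2, h2, h2'⟩ := hx d1 e1 z1
  refine ⟨d2, e2, z2, fun h => h2 (h1 h), ?_⟩
  rw [← h2', ← h1']
  group

theorem Pb_X (r : ℕ) (hr : r ∈ [6, 7, 8, 9, 10, 11]) (t : F) : Pb (xGL chevG2 F r t) := by
  intro d e z
  have key : ∀ (g : ↥(chevG2.group F)) (d' e' z' : F), (g : GL chevG2.Idx F) = xGL chevG2 F r t →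
      g * g2Rel.nf 0 0 0 d e z * g⁻¹ = g2Rel.nf 0 0 0 d' e' z' →
      xGL chevG2 F r t * N3 d e z * (xGL chevG2 F r t)⁻¹ = N3 d' e' z' := by
    intro g d' e' z' hg h
    have := congrArg (fun y : ↥(chevG2.group F) => (y : GL chevG2.Idx F)) h
    simp only [Subgroup.coe_mul, Subgroup.coe_inv, coe_nf3, hg] at this
    exact this
  simp only [List.mem_cons, List.not_mem_nil, or_false] at hr
  rcases hr with rfl | rfl | rfl | rfl | rfl | rfl
  · have h := g2Rel.cjB (F := F) 0 0 0 d e z t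
    refine ⟨d, e, z + t * e, id, key (g2Rel.B t) _ _ _ rfl ?_⟩
    rw [h]
    congr 1 <;> ring
  · have h := g2Rel.cjA (F := F) 0 0 0 d e z t
    refine ⟨d, e + t * d, z, id, key (g2Rel.A t) _ _ _ rfl ?_⟩
    rw [h]
    congr 1 <;> ring
  · have h := g2Rel.cjC (F := F) 0 0 0 d e z t
    refine ⟨d, e, z + t * d, id, key (g2Rel.C t) _ _ _ rfl ?_⟩
    rw [h]
    congr 1 <;> ring
  · have h := g2Rel.cjD (F := F) 0 0 0 d e z t
    refine ⟨d, e, z, id, key (g2Rel.D t) _ _ _ rfl ?_⟩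
    rw [h]
    congr 1 <;> ring
  · have h := g2Rel.cjE (F := F) 0 0 0 d e z t
    refine ⟨d, e, z, id, key (g2Rel.E t) _ _ _ rfl ?_⟩
    rw [h]
    congr 1 <;> ring
  · refine ⟨d, e, z, id, ?_⟩
    have hU : N3 d e z ∈ chevG2.posUnipotent F := by
      rw [← coe_nf3]; exact nf_mem_U _ _ _ _ _ _
    rw [← U_comm _ hU t]
    group

omit [CharP F 2] in
theorem Pb_H (k : GL chevG2.Idx F) (hk : k ∈ chevG2.diagonalSubgroup F) : Pb k := by
  obtain ⟨χ, hχ, -, hc⟩ := diagonalSubgroup_char chevG2 hG2 k hk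
  intro d e z
  refine ⟨χ 9 * d, χ 10 * e, χ 11 * z, fun h => mul_ne_zero (hχ 9) h, ?_⟩
  rw [mul_inv_eq_iff_eq_mul]
  unfold N3
  have h12 : chevG2.nroots = 12 := rfl
  rw [← mul_assoc k, hc 9 (by rw [h12]; norm_num), mul_assoc, ← mul_assoc k,
    hc 10 (by rw [h12]; norm_num), mul_assoc, hc 11 (by rw [h12]; norm_num)]
  simp only [mul_assoc]

/-- the subgroup of elements with the conjugation property -/
def PbSub : Subgroup (GL chevG2.Idx F) where
  carrier := {b | Pb b ∧ Pb b⁻¹}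
  mul_mem' := by
    intro x y hx hy
    change Pb (x * y) ∧ Pb (x * y)⁻¹
    rw [mul_inv_rev]
    exact ⟨Pb_mul _ _ hx.1 hy.1, Pb_mul _ _ hy.2 hx.2⟩
  one_mem' := by
    change Pb (1 : GL chevG2.Idx F) ∧ Pb (1 : GL chevG2.Idx F)⁻¹
    rw [inv_one]
    exact ⟨Pb_one, Pb_one⟩
  inv_mem' := by
    intro x hx
    change Pb x⁻¹ ∧ Pb x⁻¹⁻¹
    rw [inv_inv]
    exact ⟨hx.2, hx.1⟩

theorem Pb_B (b : GL chevG2.Idx F) (hb : b ∈ chevG2.borelSubgroup F) : Pb b := by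
  have hle : chevG2.borelSubgroup F ≤ PbSub := by
    unfold ChevalleyDatum.borelSubgroup
    apply sup_le
    · unfold ChevalleyDatum.posUnipotent
      rw [Subgroup.closure_le]
      rintro g ⟨r, a, hr, hg⟩
      have hg' : g = xGL chevG2 F r a := Units.ext (by rw [hg, xGL_val chevG2 _ htri])
      change Pb g ∧ Pb g⁻¹
      rw [hg', xGL_inv]
      exact ⟨Pb_X r ((isPos_iff r).mp hr) a, Pb_X r ((isPos_iff r).mp hr) a⟩
    · intro k hk
      exact ⟨Pb_H k hk, Pb_H _ (inv_mem hk)⟩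
  exact (hle hb).1

omit [CharP F 2] in
theorem S1100_U_le (n : GL chevG2.Idx F) :
    Subgroup.closure {x : GL chevG2.Idx F | ∃ (r : ℕ) (t : F), chevG2.IsPosRoot r ∧
      (chevG2.rootSubgroup F r).map (MulAut.conj n).toMonoidHom ≤ chevG2.negUnipotent F ∧
      (x : Matrix chevG2.Idx chevG2.Idx F) = chevG2.x F r t} ≤ chevG2.posUnipotent F := by
  apply Subgroup.closure_mono
  rintro x ⟨r, t, hr, -, hx⟩
  exact ⟨r, t, hr, hx⟩

/-- `x₁₁(1)` and `x₉(1)` are not conjugate in `G₂(F)` -/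
theorem not_conj (h : GL chevG2.Idx F) (hh : h ∈ chevG2.group F)
    (hconj : h * xGL chevG2 F 11 1 * h⁻¹ = xGL chevG2 F 9 1) : False := by
  obtain ⟨b, hb, n, hn, u, hu, rfl⟩ := (Cfsg.Agent.S1100.result (F := F) chevG2 hG2).1 h hh
  have huU := S1100_U_le n hu
  have h1 : n * xGL chevG2 F 11 1 * n⁻¹ = b⁻¹ * xGL chevG2 F 9 1 * (b⁻¹)⁻¹ := by
    rw [← hconj]
    have := U_comm u huU (1 : F)
    have e : b * n * u * xGL chevG2 F 11 1 * (b * n * u)⁻¹ =
        b * n * (u * xGL chevG2 F 11 1) * u⁻¹ * n⁻¹ * b⁻¹ := by group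
    rw [e, this]
    group
  obtain ⟨s, hs, t', h2⟩ := n_conj_long n hn
  obtain ⟨d', e', z', hd', h3⟩ := Pb_B b⁻¹ (inv_mem hb) 1 0 0
  have hd0 : d' ≠ 0 := hd' one_ne_zero
  have h4 : N3 (1 : F) 0 0 = xGL chevG2 F 9 1 := by
    unfold N3
    rw [xGL0, xGL0, mul_one, mul_one]
  rw [h4] at h3
  rw [h2, h3, ← coe_nf3] at h1
  -- `x_s(t') = nf 0 0 0 d' e' z'`
  simp only [List.mem_cons, List.not_mem_nil, or_false] at hs
  have hneg : ∀ r ∈ [0, 1, 5], xGL chevG2 F r t' =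
      ((g2Rel.nf 0 0 0 d' e' z' : ↥(chevG2.group F)) : GL chevG2.Idx F) → False := by
    intro r hr hx
    have hV : xGL chevG2 F r t' ∈ chevG2.negUnipotent F := by
      apply Subgroup.subset_closure
      refine ⟨r, t', ?_, xGL_val chevG2 _ htri r t'⟩
      simp only [List.mem_cons, List.not_mem_nil, or_false] at hr
      rcases hr with rfl | rfl | rfl <;> decide +kernel
    have hB : xGL chevG2 F r t' ∈ chevG2.borelSubgroup F := by
      rw [hx]
      exact (le_sup_left : chevG2.posUnipotent F ≤ chevG2.borelSubgroup F) (nf_mem_U _ _ _ _ _ _)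
    have h37 := (Cfsg.Agent.S1037.result (F := F) chevG2 hG2).1
    have h5 : xGL chevG2 F r t' ∈ chevG2.borelSubgroup F ⊓ chevG2.negUnipotent F := ⟨hB, hV⟩
    rw [h37, Subgroup.mem_bot, hx] at h5
    have h6 : (g2Rel.nf 0 0 0 d' e' z' : ↥(chevG2.group F)) = 1 := Subtype.ext h5
    have h7 : (g2Rel.nf 0 0 0 d' e' z' : ↥(chevG2.group F)) = g2Rel.nf 0 0 0 0 0 0 := by
      rw [h6, Rel.nf_Z, Rel.Z0]
    exact hd0 (nf_inj _ _ _ _ _ _ _ _ _ _ _ _ h7).2.2.2.1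
  rcases hs with rfl | rfl | rfl | rfl | rfl | rfl
  · exact hneg 0 (by simp) h1
  · exact hneg 1 (by simp) h1
  · exact hneg 5 (by simp) h1
  · have h5 : (g2Rel.nf t' 0 0 0 0 0 : ↥(chevG2.group F)) = g2Rel.nf 0 0 0 d' e' z' := by
      apply Subtype.ext
      rw [← h1, Rel.nf_B]
      rfl
    exact hd0 (nf_inj _ _ _ _ _ _ _ _ _ _ _ _ h5).2.2.2.1.symm
  · have h5 : (g2Rel.nf 0 0 0 0 t' 0 : ↥(chevG2.group F)) = g2Rel.nf 0 0 0 d' e' z' := by
      apply Subtype.ext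
      rw [← h1, Rel.nf_E]
      rfl
    exact hd0 (nf_inj _ _ _ _ _ _ _ _ _ _ _ _ h5).2.2.2.1.symm
  · have h5 : (g2Rel.nf 0 0 0 0 0 t' : ↥(chevG2.group F)) = g2Rel.nf 0 0 0 d' e' z' := by
      apply Subtype.ext
      rw [← h1, Rel.nf_Z]
      rfl
    exact hd0 (nf_inj _ _ _ _ _ _ _ _ _ _ _ _ h5).2.2.2.1.symm

end char2

end Cfsg.Agent.Helper4.G2Inv
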